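import Mathlib

/-!
# Algebra for extending rational sections of unramified morphisms over normal bases (helper8)

Uses the algebraic form of Zariski's main theorem from Mathlib.
-/

set_option autoImplicit false
universe u

namespace Groth.Agent.H8.RatSec

/-- A valuation ring of the fraction field of a domain `R`, containing `R`, centred at a
given prime `p`. -/
theorem exists_valuationSubring_center {R : Type u} [CommRing R] [IsDomain R]
    {K : Type u} [Field K] [Algebra R K] [IsFractionRing R K] (p : Ideal R) [p.IsPrime] :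
    ∃ (O : ValuationSubring K) (hRO : ∀ a : R, algebraMap R K a ∈ O),
      ∀ a : R, IsUnit (⟨algebraMap R K a, hRO a⟩ : O) ↔ a ∉ p := by
  have hunit : ∀ y : p.primeCompl, IsUnit (algebraMap R K (y : R)) := by
    intro y
    have hy : (y : R) ≠ 0 := fun h => y.2 (h ▸ p.zero_mem)
    exact IsUnit.mk0 _ ((map_ne_zero_iff _ (IsFractionRing.injective R K)).mpr hy)
  let g : Localization.AtPrime p →+* K := IsLocalization.lift (M := p.primeCompl) hunit
  obtain ⟨O, hO, hloc⟩ := IsLocalRing.exists_factor_valuationRing g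
  have hg : ∀ a : R, g (algebraMap R (Localization.AtPrime p) a) = algebraMap R K a :=
    fun a => IsLocalization.lift_eq hunit a
  have hRO : ∀ a : R, algebraMap R K a ∈ O := by
    intro a
    have := hO (algebraMap R (Localization.AtPrime p) a)
    rw [hg a] at this
    exact this
  refine ⟨O, hRO, fun a => ?_⟩
  have heq : (⟨algebraMap R K a, hRO a⟩ : O) =
      (g.codRestrict O.toSubring hO) (algebraMap R (Localization.AtPrime p) a) :=
    Subtype.ext (hg a).symm
  rw [heq]
  constructor
  · intro hu hap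
    have h1 : IsUnit (algebraMap R (Localization.AtPrime p) a) :=
      isUnit_of_map_unit (g.codRestrict O.toSubring hO) _ hu
    exact (IsLocalization.AtPrime.isUnit_to_map_iff (Localization.AtPrime p) p a).mp h1 hap
  · intro hap
    exact ((IsLocalization.AtPrime.isUnit_to_map_iff (Localization.AtPrime p) p a).mpr hap).map _

/-- Zariski's main theorem + integrally closed base: an `R`-algebra map from a finite type
unramified (hence quasi-finite) `R`-algebra `C` to a valuation ring `O ⊆ Frac R` has image in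
`R[1/r]` for some `r ∈ R` which is a unit of `O`. -/
theorem exists_denominator {R : Type u} [CommRing R] [IsDomain R] [IsIntegrallyClosed R]
    {K : Type u} [Field K] [Algebra R K] [IsFractionRing R K]
    (O : ValuationSubring K)
    {C : Type u} [CommRing C] [Algebra R C] [Algebra.FiniteType R C]
    [Algebra.FormallyUnramified R C]
    (ψ : C →+* O) (hψ : ∀ a : R, algebraMap O K (ψ (algebraMap R C a)) = algebraMap R K a) :
    ∃ r : R, IsUnit (ψ (algebraMap R C r)) ∧
      ∀ c : C, ∃ (m : ℕ) (a : R),
        algebraMap R K a = algebraMap R K r ^ m * algebraMap O K (ψ c) := by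
  let q : Ideal C := (IsLocalRing.maximalIdeal O).comap ψ
  haveI : q.IsPrime := Ideal.comap_isPrime ψ _
  haveI : Algebra.QuasiFinite R C := inferInstance
  haveI : Algebra.QuasiFiniteAt R q := inferInstance
  obtain ⟨r₀, hr₀q, hr₀int, H⟩ := Algebra.zariskisMainProperty_iff.mp
    (Algebra.ZariskisMainProperty.of_finiteType (R := R) q)
  let ψK : C →ₐ[R] K :=
    { toRingHom := (algebraMap O K).comp ψ
      commutes' := fun a => hψ a }
  have hψK : ∀ c, ψK c = algebraMap O K (ψ c) := fun c => rfl
  have hint : IsIntegral R (ψK r₀) := hr₀int.map ψK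
  obtain ⟨r, hr⟩ := IsIntegrallyClosed.isIntegral_iff.mp hint
  refine ⟨r, ?_, ?_⟩
  · have h1 : ψ (algebraMap R C r) = ψ r₀ := by
      apply IsFractionRing.injective O K
      rw [hψ r, hr, hψK]
    rw [h1]
    by_contra hnu
    exact hr₀q ((IsLocalRing.mem_maximalIdeal _).mpr hnu)
  · intro c
    obtain ⟨m, hm⟩ := H c
    have h2 : IsIntegral R (ψK (r₀ ^ m * c)) := hm.map ψK
    obtain ⟨a, ha⟩ := IsIntegrallyClosed.isIntegral_iff.mp h2
    refine ⟨m, a, ?_⟩
    rw [ha, map_mul, map_pow, ← hr, hψK]

/-- Lifting to the localization `R[1/r]`. -/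
theorem exists_lift_away {R : Type u} [CommRing R] [IsDomain R]
    {K : Type u} [Field K] [Algebra R K] [IsFractionRing R K]
    {C : Type u} [CommRing C] [Algebra R C]
    (ψK : C →+* K) (hψK : ∀ a : R, ψK (algebraMap R C a) = algebraMap R K a)
    (r : R) (hr : r ≠ 0)
    (H : ∀ c : C, ∃ (m : ℕ) (a : R), algebraMap R K a = algebraMap R K r ^ m * ψK c)
    (Rr : Type u) [CommRing Rr] [Algebra R Rr] [IsLocalization.Away r Rr] :
    ∃ (ιr : Rr →+* K) (σ : C →+* Rr), (∀ a : R, ιr (algebraMap R Rr a) = algebraMap R K a) ∧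
      (∀ c, ιr (σ c) = ψK c) ∧ ∀ a : R, σ (algebraMap R C a) = algebraMap R Rr a := by
  have hru : IsUnit (algebraMap R K r) :=
    IsUnit.mk0 _ ((map_ne_zero_iff _ (IsFractionRing.injective R K)).mpr hr)
  let ιr : Rr →+* K := IsLocalization.Away.lift r hru
  have hιr : ∀ a : R, ιr (algebraMap R Rr a) = algebraMap R K a :=
    fun a => IsLocalization.Away.lift_eq r hru a
  have hinj : Function.Injective ιr := by
    rw [injective_iff_map_eq_zero]
    intro x hx
    obtain ⟨a, ⟨_, n, rfl⟩, rfl⟩ := IsLocalization.exists_mk'_eq (Submonoid.powers r) x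
    have h1 : ιr (IsLocalization.mk' Rr a (⟨r ^ n, n, rfl⟩ : Submonoid.powers r)) *
        algebraMap R K (r ^ n) = algebraMap R K a := by
      rw [← hιr (r ^ n), ← map_mul, IsLocalization.mk'_spec, hιr]
    rw [hx, zero_mul] at h1
    have ha : a = 0 := (map_eq_zero_iff _ (IsFractionRing.injective R K)).mp h1.symm
    rw [ha, IsLocalization.mk'_zero]
  have hrange : ∀ c : C, ψK c ∈ ιr.range := by
    intro c
    obtain ⟨m, a, ha⟩ := H c
    refine ⟨IsLocalization.mk' Rr a (⟨r ^ m, m, rfl⟩ : Submonoid.powers r), ?_⟩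
    have hu : IsUnit (algebraMap R K (r ^ m)) := by rw [map_pow]; exact hru.pow m
    apply hu.mul_right_cancel
    rw [← hιr (r ^ m), ← map_mul, IsLocalization.mk'_spec, hιr, ha, hιr, map_pow, mul_comm]
  let e : Rr ≃+* ιr.range := RingEquiv.ofBijective ιr.rangeRestrict
    ⟨fun x y h => hinj (congrArg Subtype.val h), ιr.rangeRestrict_surjective⟩
  let σ : C →+* Rr := e.symm.toRingHom.comp (ψK.codRestrict ιr.range hrange)
  have hσ : ∀ c, ιr (σ c) = ψK c := by
    intro c
    have h1 : e (σ c) = ψK.codRestrict ιr.range hrange c := e.apply_symm_apply _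
    exact congrArg Subtype.val h1
  refine ⟨ιr, σ, hιr, hσ, fun a => hinj ?_⟩
  rw [hσ, hψK, hιr]

end Groth.Agent.H8.RatSec
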