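import Mathlib
import Groth.Prelude.Def_Pi1
import Groth.Agent.Lib.Helper8.RatSec.Alg
import Groth.Agent.Lib.Helper8.Extend

/-!
# Rational sections of separated unramified formally proper morphisms over normal bases extend
(helper8; S7849)
-/

set_option autoImplicit false
universe u
open CategoryTheory CategoryTheory.Limits AlgebraicGeometry TopologicalSpace Opposite

namespace Groth.Agent.H8.RatSec

lemma exists_lift_of_existence' {X Y : Scheme.{u}} (f : X ⟶ Y)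
    (hE : ValuativeCriterion.Existence f)
    (O : Type u) [CommRing O] [IsDomain O] [ValuationRing O] (K : Type u) [Field K] [Algebra O K]
    [IsFractionRing O K]
    (i₁ : Spec (CommRingCat.of K) ⟶ X) (i₂ : Spec (CommRingCat.of O) ⟶ Y)
    (h : i₁ ≫ f = Spec.map (CommRingCat.ofHom (algebraMap O K)) ≫ i₂) :
    ∃ l : Spec (CommRingCat.of O) ⟶ X, l ≫ f = i₂ ∧
      Spec.map (CommRingCat.ofHom (algebraMap O K)) ≫ l = i₁ := by
  let Sq : ValuativeCommSq f :=
    { R := O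
      K := K
      i₁ := i₁
      i₂ := i₂
      commSq := ⟨h⟩ }
  obtain ⟨l, hl1, hl2⟩ := (hE Sq).exists_lift
  exact ⟨l, hl2, hl1⟩

theorem isIntegrallyClosed_of_normal {S : Scheme.{u}} (hS : Pi1.IsNormalScheme S) {W : S.Opens}
    (hW : IsAffineOpen W) [IsDomain Γ(S, W)] : IsIntegrallyClosed Γ(S, W) := by
  apply IsIntegrallyClosed.of_localization_maximal
  intro P _ hP
  let P' : PrimeSpectrum Γ(S, W) := ⟨P, hP.isPrime⟩
  have hy : hW.fromSpec P' ∈ W := by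
    have : hW.fromSpec P' ∈ Set.range hW.fromSpec := ⟨P', rfl⟩
    rw [hW.range_fromSpec] at this
    exact this
  letI : Algebra Γ(S, W) (S.presheaf.stalk (hW.fromSpec P')) :=
    S.presheaf.algebra_section_stalk ⟨hW.fromSpec P', hy⟩
  haveI : IsLocalization.AtPrime (S.presheaf.stalk (hW.fromSpec P')) P :=
    hW.isLocalization_stalk' P' hy
  haveI : IsIntegrallyClosed (S.presheaf.stalk (hW.fromSpec P')) := (hS _).2
  exact IsIntegrallyClosed.of_equiv
    (IsLocalization.algEquiv P.primeCompl (S.presheaf.stalk (hW.fromSpec P'))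
      (Localization.AtPrime P)).toRingEquiv

theorem isReduced_of_normal {S : Scheme.{u}} (hS : Pi1.IsNormalScheme S) : IsReduced S := by
  haveI : ∀ x : S, _root_.IsReduced (S.presheaf.stalk x) := fun x => by
    haveI := (hS x).1
    infer_instance
  exact isReduced_of_isReduced_stalk S

set_option maxHeartbeats 1600000 in
theorem exists_local_section {Z S : Scheme.{u}} (f : Z ⟶ S)
    [IsLocallyNoetherian S] (hS : Pi1.IsNormalScheme S) [IsSeparated f] [FormallyUnramified f]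
    [LocallyOfFiniteType f]
    (hfp : ValuativeCriterion.Existence f) (U : S.Opens) (hU : Dense (U : Set S))
    (v : (U : Scheme.{u}) ⟶ Z) (hv : v ≫ f = U.ι) (s : S) :
    ∃ (V : S.Opens) (w : (V : Scheme.{u}) ⟶ Z), s ∈ V ∧ w ≫ f = V.ι ∧
      S.homOfLE (inf_le_left : V ⊓ U ≤ V) ≫ w = S.homOfLE (inf_le_right : V ⊓ U ≤ U) ≫ v := by
  haveI : IsDomain (S.presheaf.stalk s) := (hS s).1
  obtain ⟨W, hsW, hW, hinj⟩ := S.exists_germ_injective s
  haveI : IsDomain Γ(S, W) := Function.Injective.isDomain (S.presheaf.germ W s hsW).hom hinj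
  haveI : IsIntegrallyClosed Γ(S, W) := isIntegrallyClosed_of_normal hS hW
  haveI : IsReduced S := isReduced_of_normal hS
  obtain ⟨K, hK⟩ : ∃ K : Type u, K = FractionRing Γ(S, W) := ⟨_, rfl⟩
  subst hK
  obtain ⟨p, hp⟩ : ∃ p : Ideal Γ(S, W), p = (hW.primeIdealOf ⟨s, hsW⟩).asIdeal := ⟨_, rfl⟩
  haveI : p.IsPrime := hp ▸ (hW.primeIdealOf ⟨s, hsW⟩).isPrime
  obtain ⟨O, hRO, hOunit⟩ := exists_valuationSubring_center (R := Γ(S, W))
    (K := FractionRing Γ(S, W)) p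
  -- ring maps
  let ρO : Γ(S, W) →+* O :=
    { toFun := fun a => ⟨algebraMap Γ(S, W) (FractionRing Γ(S, W)) a, hRO a⟩
      map_one' := Subtype.ext (map_one _)
      map_mul' := fun a b => Subtype.ext (map_mul _ a b)
      map_zero' := Subtype.ext (map_zero _)
      map_add' := fun a b => Subtype.ext (map_add _ a b) }
  have hcomp : (algebraMap O (FractionRing Γ(S, W))).comp ρO =
      algebraMap Γ(S, W) (FractionRing Γ(S, W)) := RingHom.ext fun a => rfl
  obtain ⟨gK, hgK⟩ : ∃ gK : Spec (CommRingCat.of (FractionRing Γ(S, W))) ⟶ S,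
      gK = Spec.map (CommRingCat.ofHom (algebraMap Γ(S, W) (FractionRing Γ(S, W)))) ≫
        hW.fromSpec := ⟨_, rfl⟩
  obtain ⟨gO, hgO⟩ : ∃ gO : Spec (CommRingCat.of O) ⟶ S,
      gO = Spec.map (CommRingCat.ofHom ρO) ≫ hW.fromSpec := ⟨_, rfl⟩
  have hgKO : gK = Spec.map (CommRingCat.ofHom (algebraMap O (FractionRing Γ(S, W)))) ≫ gO := by
    rw [hgK, hgO, ← Category.assoc, ← Spec.map_comp, ← CommRingCat.ofHom_comp, hcomp]
  -- the generic point
  have hξ : ∀ x : Spec (CommRingCat.of (FractionRing Γ(S, W))),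
      gK x ∈ U ∧ ∀ y ∈ W, gK x ⤳ y := by
    intro x
    have hspec : ∀ y ∈ W, gK x ⤳ y := by
      intro y hy
      obtain ⟨q, rfl⟩ : ∃ q, hW.fromSpec q = y := by
        have : y ∈ Set.range hW.fromSpec := by rw [hW.range_fromSpec]; exact hy
        exact this
      have h1 : gK x = hW.fromSpec
          (Spec.map (CommRingCat.ofHom (algebraMap Γ(S, W) (FractionRing Γ(S, W)))) x) := by
        rw [hgK, Scheme.Hom.comp_apply]
      rw [h1]
      obtain ⟨x', hx'⟩ : ∃ x' : PrimeSpectrum Γ(S, W), x' = Spec.map (CommRingCat.ofHom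
          (algebraMap Γ(S, W) (FractionRing Γ(S, W)))) x := ⟨_, rfl⟩
      obtain ⟨q', hq'⟩ : ∃ q' : PrimeSpectrum Γ(S, W), q' = q := ⟨_, rfl⟩
      have key : x' ≤ q' := by
        intro a ha
        have ha' : algebraMap Γ(S, W) (FractionRing Γ(S, W)) a ∈
            (x : PrimeSpectrum (FractionRing Γ(S, W))).asIdeal := by
          rw [hx'] at ha
          exact ha
        have h0 : algebraMap Γ(S, W) (FractionRing Γ(S, W)) a = 0 := by
          by_contra hne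
          exact (x : PrimeSpectrum (FractionRing Γ(S, W))).isPrime.ne_top
            (Ideal.eq_top_of_isUnit_mem _ ha' (IsUnit.mk0 _ hne))
        have h00 : a = 0 :=
          (map_eq_zero_iff _ (IsFractionRing.injective Γ(S, W) (FractionRing Γ(S, W)))).mp h0
        rw [h00]
        exact q'.asIdeal.zero_mem
      have hsp : x' ⤳ q' := (PrimeSpectrum.le_iff_specializes x' q').mp key
      rw [hx', hq'] at hsp
      exact hsp.map hW.fromSpec.continuous
    refine ⟨?_, hspec⟩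
    obtain ⟨u, huU, huW⟩ : ((U : Set S) ∩ (W : Set S)).Nonempty := by
      rw [Set.inter_comm]
      exact hU.inter_open_nonempty W W.isOpen ⟨s, hsW⟩
    exact (hspec u huW).mem_open U.isOpen huU
  have hrangeU : Set.range gK ⊆ Set.range U.ι := by
    rintro _ ⟨x, rfl⟩
    rw [Scheme.Opens.range_ι]
    exact (hξ x).1
  obtain ⟨jU, hjU⟩ : ∃ jU : Spec (CommRingCat.of (FractionRing Γ(S, W))) ⟶ (U : Scheme.{u}),
      jU ≫ U.ι = gK := ⟨IsOpenImmersion.lift U.ι gK hrangeU, IsOpenImmersion.lift_fac _ _ _⟩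
  have hsq : (jU ≫ v) ≫ f =
      Spec.map (CommRingCat.ofHom (algebraMap O (FractionRing Γ(S, W)))) ≫ gO := by
    rw [Category.assoc, hv, hjU, hgKO]
  obtain ⟨ℓ, hℓf, hℓK⟩ := exists_lift_of_existence' f hfp O (FractionRing Γ(S, W)) (jU ≫ v) gO hsq
  -- the centre
  obtain ⟨z, hz⟩ : ∃ z : Z, z = ℓ (IsLocalRing.closedPoint O) := ⟨_, rfl⟩
  have hzW : z ∈ f ⁻¹ᵁ W := by
    show f z ∈ W
    have h1 : f z = gO (IsLocalRing.closedPoint O) := by
      rw [hz, ← hℓf, Scheme.Hom.comp_apply]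
    rw [h1]
    have : gO (IsLocalRing.closedPoint O) ∈ Set.range hW.fromSpec := by
      rw [hgO, Scheme.Hom.comp_apply]
      exact ⟨_, rfl⟩
    rw [hW.range_fromSpec] at this
    exact this
  obtain ⟨T, hT, hzT, hTW⟩ := exists_isAffineOpen_mem_and_subset (x := z) (U := f ⁻¹ᵁ W) hzW
  have e : T ≤ f ⁻¹ᵁ W := fun x hx => hTW hx
  letI : Algebra Γ(S, W) Γ(Z, T) := (f.appLE W T e).hom.toAlgebra
  haveI : Algebra.FiniteType Γ(S, W) Γ(Z, T) :=
    HasRingHomProperty.appLE (P := @LocallyOfFiniteType) f inferInstance ⟨W, hW⟩ ⟨T, hT⟩ e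
  haveI : Algebra.FormallyUnramified Γ(S, W) Γ(Z, T) :=
    HasRingHomProperty.appLE (P := @FormallyUnramified) f inferInstance ⟨W, hW⟩ ⟨T, hT⟩ e
  -- `ℓ` factors through `T`
  have hℓT : Set.range ℓ ⊆ Set.range T.ι := by
    rw [Scheme.Opens.range_ι]
    have htop : ℓ ⁻¹ᵁ T = ⊤ := Scheme.preimage_eq_top_of_closedPoint_mem (f := ℓ) (hz ▸ hzT)
    rintro _ ⟨x, rfl⟩
    have : x ∈ ℓ ⁻¹ᵁ T := htop ▸ trivial
    exact this
  obtain ⟨ℓT, hℓT'⟩ : ∃ ℓT : Spec (CommRingCat.of O) ⟶ (T : Scheme.{u}), ℓT ≫ T.ι = ℓ :=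
    ⟨IsOpenImmersion.lift T.ι ℓ hℓT, IsOpenImmersion.lift_fac _ _ _⟩
  obtain ⟨ψc, hψc⟩ : ∃ ψc : Γ(Z, T) ⟶ CommRingCat.of O, Spec.map ψc ≫ hT.fromSpec = ℓ := by
    refine ⟨Spec.preimage (ℓT ≫ hT.isoSpec.hom), ?_⟩
    rw [Spec.map_preimage, Category.assoc, hT.isoSpec_hom_fromSpec, hℓT']
  have hψφ : f.appLE W T e ≫ ψc = CommRingCat.ofHom ρO := by
    apply Spec.map_injective
    rw [← cancel_mono hW.fromSpec, Spec.map_comp, Category.assoc,
      IsAffineOpen.SpecMap_appLE_fromSpec f hW hT e, ← Category.assoc, hψc, hℓf, hgO]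
  have hψ : ∀ a : Γ(S, W), algebraMap O (FractionRing Γ(S, W))
      (ψc.hom (algebraMap Γ(S, W) Γ(Z, T) a)) = algebraMap Γ(S, W) (FractionRing Γ(S, W)) a := by
    intro a
    have h1 : ψc.hom ((f.appLE W T e).hom a) = ρO a := congrArg (fun h => h.hom a) hψφ
    show algebraMap O (FractionRing Γ(S, W)) (ψc.hom ((f.appLE W T e).hom a)) = _
    rw [h1]
    rfl
  obtain ⟨r, hrunit, Hr⟩ := exists_denominator (R := Γ(S, W)) (K := FractionRing Γ(S, W)) O
    ψc.hom hψ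
  have hrp : r ∉ p := by
    rw [← hOunit r]
    have h1 : (⟨algebraMap Γ(S, W) (FractionRing Γ(S, W)) r, hRO r⟩ : O) =
        ψc.hom (algebraMap Γ(S, W) Γ(Z, T) r) := Subtype.ext (hψ r).symm
    rw [h1]
    exact hrunit
  have hsV : s ∈ S.basicOpen r := by
    have h1 : hW.fromSpec (hW.primeIdealOf ⟨s, hsW⟩) = s := hW.fromSpec_primeIdealOf ⟨s, hsW⟩
    have h2 : hW.primeIdealOf ⟨s, hsW⟩ ∈ hW.fromSpec ⁻¹ᵁ S.basicOpen r := by
      rw [hW.fromSpec_preimage_basicOpen]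
      show r ∉ (hW.primeIdealOf ⟨s, hsW⟩).asIdeal
      rw [← hp]
      exact hrp
    rw [← h1]
    exact h2
  have hr0 : r ≠ 0 := fun h => hrp (h ▸ p.zero_mem)
  haveI := hW.isLocalization_basicOpen r
  obtain ⟨ιr, σ, hιr, hσ, hσφ⟩ := exists_lift_away (R := Γ(S, W)) (K := FractionRing Γ(S, W))
    ((algebraMap O (FractionRing Γ(S, W))).comp ψc.hom) hψ r hr0 Hr Γ(S, S.basicOpen r)
  have hD : IsAffineOpen (S.basicOpen r) := hW.basicOpen r
  have hres : Spec.map (CommRingCat.ofHom (algebraMap Γ(S, W) Γ(S, S.basicOpen r))) ≫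
      hW.fromSpec = hD.fromSpec :=
    hW.map_fromSpec hD (homOfLE (S.basicOpen_le r)).op
  have hσφ' : f.appLE W T e ≫ CommRingCat.ofHom σ =
      CommRingCat.ofHom (algebraMap Γ(S, W) Γ(S, S.basicOpen r)) := by
    ext a
    exact hσφ a
  have hιr' : CommRingCat.ofHom (algebraMap Γ(S, W) Γ(S, S.basicOpen r)) ≫ CommRingCat.ofHom ιr =
      CommRingCat.ofHom (algebraMap Γ(S, W) (FractionRing Γ(S, W))) := by
    ext a
    exact hιr a
  have hσ' : CommRingCat.ofHom σ ≫ CommRingCat.ofHom ιr =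
      ψc ≫ CommRingCat.ofHom (algebraMap O (FractionRing Γ(S, W))) := by
    ext c
    exact hσ c
  obtain ⟨w, hw⟩ : ∃ w : (S.basicOpen r : Scheme.{u}) ⟶ Z,
      w = hD.isoSpec.hom ≫ Spec.map (CommRingCat.ofHom σ) ≫ hT.fromSpec := ⟨_, rfl⟩
  have hwf : w ≫ f = (S.basicOpen r).ι := by
    rw [hw, Category.assoc, Category.assoc, ← IsAffineOpen.SpecMap_appLE_fromSpec f hW hT e,
      ← Spec.map_comp_assoc, hσφ', hres, hD.isoSpec_hom_fromSpec]
  refine ⟨S.basicOpen r, w, hsV, hwf, ?_⟩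
  -- agreement with `v` on `V ⊓ U`
  have hrangeP : Set.range gK ⊆ Set.range (S.basicOpen r ⊓ U).ι := by
    rintro _ ⟨x, rfl⟩
    rw [Scheme.Opens.range_ι]
    exact ⟨((hξ x).2 s hsW).mem_open (S.basicOpen r).isOpen hsV, (hξ x).1⟩
  obtain ⟨j, hj⟩ : ∃ j : Spec (CommRingCat.of (FractionRing Γ(S, W))) ⟶
      ((S.basicOpen r ⊓ U : S.Opens) : Scheme.{u}), j ≫ (S.basicOpen r ⊓ U).ι = gK :=
    ⟨IsOpenImmersion.lift (S.basicOpen r ⊓ U).ι gK hrangeP, IsOpenImmersion.lift_fac _ _ _⟩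
  haveI : IsDominant j := by
    refine ⟨fun y => ?_⟩
    obtain ⟨x₀⟩ : Nonempty (PrimeSpectrum (FractionRing Γ(S, W))) := inferInstance
    have h1 : (S.basicOpen r ⊓ U).ι (j x₀) ⤳ (S.basicOpen r ⊓ U).ι y := by
      rw [← Scheme.Hom.comp_apply, hj]
      exact (hξ x₀).2 _ (S.basicOpen_le r y.2.1)
    have h2 : j x₀ ⤳ y :=
      (S.basicOpen r ⊓ U).ι.isEmbedding.isInducing.specializes_iff.mp h1
    exact closure_mono (Set.singleton_subset_iff.mpr (show j x₀ ∈ Set.range j from ⟨x₀, rfl⟩))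
      (specializes_iff_mem_closure.mp h2)
  have hjb : j ≫ S.homOfLE (inf_le_right : S.basicOpen r ⊓ U ≤ U) = jU := by
    rw [← cancel_mono U.ι, Category.assoc, Scheme.homOfLE_ι, hj, hjU]
  have hja : j ≫ S.homOfLE (inf_le_left : S.basicOpen r ⊓ U ≤ S.basicOpen r) ≫ hD.isoSpec.hom =
      Spec.map (CommRingCat.ofHom ιr) := by
    rw [← cancel_mono hD.fromSpec, Category.assoc, Category.assoc, hD.isoSpec_hom_fromSpec,
      Scheme.homOfLE_ι, hj, ← hres, ← Spec.map_comp_assoc, hιr', hgK]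
  refine ext_of_isDominant_of_isSeparated f ?_ j ?_
  · rw [Category.assoc, Category.assoc, hwf, hv, Scheme.homOfLE_ι, Scheme.homOfLE_ι]
  · rw [← Category.assoc j _ v, hjb, hw, ← Category.assoc (S.homOfLE _), ← Category.assoc j, hja,
      ← Spec.map_comp_assoc, hσ', ← hℓK, ← hψc, Spec.map_comp_assoc]

theorem main_S7849 {Z S : Scheme.{u}} (f : Z ⟶ S)
    [IsLocallyNoetherian S] (hS : Pi1.IsNormalScheme S) [IsSeparated f] [FormallyUnramified f]
    [LocallyOfFiniteType f]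
    (hfp : ValuativeCriterion.Existence f) (U : S.Opens) (hU : Dense (U : Set S))
    (v : (U : Scheme.{u}) ⟶ Z) (hv : v ≫ f = U.ι) :
    ∃ w : S ⟶ Z, w ≫ f = 𝟙 S ∧ U.ι ≫ w = v := by
  haveI : IsReduced S := isReduced_of_normal hS
  choose V w hsV hwf hwv using exists_local_section f hS hfp U hU v hv
  let V' : Option S → S.Opens := fun o => o.elim U V
  let w' : ∀ o : Option S, ((V' o : S.Opens) : Scheme.{u}) ⟶ Z := fun o =>
    Option.rec (motive := fun o => ((V' o : S.Opens) : Scheme.{u}) ⟶ Z) v w o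
  have hw'f : ∀ o, w' o ≫ f = (V' o).ι := by
    rintro (_ | s)
    · exact hv
    · exact hwf s
  have hw'v : ∀ o, S.homOfLE (inf_le_left : V' o ⊓ U ≤ V' o) ≫ w' o =
      S.homOfLE (inf_le_right : V' o ⊓ U ≤ U) ≫ v := by
    rintro (_ | s)
    · rfl
    · exact hwv s
  have hcov : IsOpenCover V' := by
    show iSup V' = ⊤
    rw [eq_top_iff]
    intro x _
    exact TopologicalSpace.Opens.mem_iSup.mpr ⟨some x, hsV x⟩
  have compat : ∀ o o' : Option S,
      pullback.fst ((V' o).ι) ((V' o').ι) ≫ w' o = pullback.snd ((V' o).ι) ((V' o').ι) ≫ w' o' := by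
    intro o o'
    haveI : IsReduced (pullback ((V' o).ι) ((V' o').ι)) :=
      isReduced_of_isOpenImmersion (pullback.fst ((V' o).ι) ((V' o').ι))
    obtain ⟨q, hq⟩ : ∃ q : pullback ((V' o).ι) ((V' o').ι) ⟶ S,
        q = pullback.fst ((V' o).ι) ((V' o').ι) ≫ (V' o).ι := ⟨_, rfl⟩
    haveI : IsOpenImmersion q := hq ▸ inferInstance
    haveI : IsDominant (q ⁻¹ᵁ U).ι := by
      refine ⟨?_⟩
      rw [DenseRange, Scheme.Opens.range_ι]
      exact hU.preimage q.isOpenEmbedding.isOpenMap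
    have hrange : Set.range ((q ⁻¹ᵁ U).ι ≫ q) ⊆ Set.range U.ι := by
      rintro _ ⟨t, rfl⟩
      rw [Scheme.Opens.range_ι, Scheme.Hom.comp_apply]
      exact t.2
    obtain ⟨b', hb'⟩ : ∃ b' : ((q ⁻¹ᵁ U : (pullback ((V' o).ι) ((V' o').ι)).Opens) : Scheme.{u}) ⟶
        (U : Scheme.{u}), b' ≫ U.ι = (q ⁻¹ᵁ U).ι ≫ q :=
      ⟨IsOpenImmersion.lift U.ι ((q ⁻¹ᵁ U).ι ≫ q) hrange, IsOpenImmersion.lift_fac _ _ _⟩
    have h1 : ((q ⁻¹ᵁ U).ι ≫ pullback.fst ((V' o).ι) ((V' o').ι)) ≫ w' o = b' ≫ v :=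
      Groth.Agent.H8.Extend.comp_eq_of_agree (V' o) U (w' o) v (hw'v o) _ b'
        (by rw [hb', hq, Category.assoc])
    have h2 : ((q ⁻¹ᵁ U).ι ≫ pullback.snd ((V' o).ι) ((V' o').ι)) ≫ w' o' = b' ≫ v :=
      Groth.Agent.H8.Extend.comp_eq_of_agree (V' o') U (w' o') v (hw'v o') _ b'
        (by rw [hb', hq, Category.assoc, pullback.condition])
    refine ext_of_isDominant_of_isSeparated f ?_ (q ⁻¹ᵁ U).ι ?_
    · rw [Category.assoc, Category.assoc, hw'f, hw'f, pullback.condition]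
    · rw [← Category.assoc, h1, ← Category.assoc, h2]
  obtain ⟨𝒰, h𝒰⟩ : ∃ 𝒰 : S.OpenCover, 𝒰 = S.openCoverOfIsOpenCover V' hcov := ⟨_, rfl⟩
  subst h𝒰
  refine ⟨(S.openCoverOfIsOpenCover V' hcov).glueMorphisms w' compat, ?_, ?_⟩
  · refine Scheme.Cover.hom_ext (S.openCoverOfIsOpenCover V' hcov) _ _ fun o => ?_
    show (V' o).ι ≫ _ ≫ f = (V' o).ι ≫ 𝟙 S
    rw [← Category.assoc]
    erw [Scheme.Cover.ι_glueMorphisms (S.openCoverOfIsOpenCover V' hcov) w' compat o]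
    rw [hw'f, Category.comp_id]
  · exact Scheme.Cover.ι_glueMorphisms (S.openCoverOfIsOpenCover V' hcov) w' compat none

end Groth.Agent.H8.RatSec
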